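import Cfsg.Agent.Comp.M11x.Data

set_option autoImplicit false
set_option maxRecDepth 100000
set_option Elab.async false

namespace Cfsg.Agent.Comp.M11x

theorem s0 : allR J.slpAt 0 9 = true := by decide +kernel
theorem l3 : J.lvlAt L3 [] = true := by decide +kernel
theorem q3_0 : allR (schChk J.E L3 [] J.AB h3 (nat_lit 1) (nat_lit 1)) 0 8 = true := by decide +kernel
theorem l2 : J.lvlAt L2 [L3] = true := by decide +kernel
theorem q2_0 : allR (schChk J.E L2 [L3] J.AB h2 (nat_lit 8) (nat_lit 255)) 0 9 = true := by decide +kernel
theorem l1 : J.lvlAt L1 [L2, L3] = true := by decide +kernel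
theorem q1_0 : allR (schChk J.E L1 [L2, L3] J.AB h1 (nat_lit 16) (nat_lit 65535)) 0 10 = true := by decide +kernel
theorem l0 : J.lvlAt L0 [L1, L2, L3] = true := by decide +kernel
theorem q0_0 : allR (schChk J.E L0 [L1, L2, L3] J.AB h0 (nat_lit 24) (nat_lit 16777215)) 0 11 = true := by decide +kernel
theorem rp : J.repsAt (nat_lit 10) xs = true := by decide +kernel
noncomputable def t14 : ℕ := nat_lit 0x384030000118181820034828502802385018500a1838404008384820480950484830064010485003
theorem n14 : fullChk J.E [L0, L1, L2, L3] R [nat_lit 8, nat_lit 16, nat_lit 72] t14 (nat_lit 40) (nat_lit 1099511627775) = true := by decide +kernel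
noncomputable def t13 : ℕ := nat_lit 0x38405000083828485004304020300448403800082038280008181028480448404808085028402004
theorem n13 : fullChk J.E [L0, L1, L2, L3] R [nat_lit 8, nat_lit 16, nat_lit 0] t13 (nat_lit 40) (nat_lit 1099511627775) = true := by decide +kernel
noncomputable def t12 : ℕ := nat_lit 0x1100312212322121000000
theorem n12 : redChk J.E [L0, L1, L2, L3] J.AV [nat_lit 8, nat_lit 16] [nat_lit 672139264, nat_lit 1074792448] t12 [nat_lit 0, nat_lit 72] = true := by decide +kernel
noncomputable def t11 : ℕ := nat_lit 0x18203020083838505001185008380250102838013840183008181830380840401820023828182805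
theorem n11 : fullChk J.E [L0, L1, L2, L3] R [nat_lit 8, nat_lit 0, nat_lit 48] t11 (nat_lit 40) (nat_lit 1099511627775) = true := by decide +kernel
noncomputable def t10 : ℕ := nat_lit 0x18481838012010283805183828480518181850052810282001182810100230202828054020081002
theorem n10 : fullChk J.E [L0, L1, L2, L3] R [nat_lit 8, nat_lit 0, nat_lit 16] t10 (nat_lit 40) (nat_lit 1099511627775) = true := by decide +kernel
noncomputable def t9 : ℕ := nat_lit 0x3231122200212111000000
theorem n9 : redChk J.E [L0, L1, L2, L3] J.AV [nat_lit 8, nat_lit 0] [nat_lit 940574720, nat_lit 672139264] t9 [nat_lit 16, nat_lit 48] = true := by decide +kernel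
noncomputable def t8 : ℕ := nat_lit 0x1132311241222221000000
theorem n8 : redChk J.E [L0, L1, L2, L3] J.AV [nat_lit 8] [nat_lit 1345849344, nat_lit 542115840] t8 [nat_lit 0, nat_lit 16] = true := by decide +kernel
noncomputable def t7 : ℕ := nat_lit 0x38181048064040200002385008000318302800033818202806304848500120400840061810200004
theorem n7 : fullChk J.E [L0, L1, L2, L3] R [nat_lit 0, nat_lit 16, nat_lit 56] t7 (nat_lit 40) (nat_lit 1099511627775) = true := by decide +kernel
noncomputable def t6 : ℕ := nat_lit 0x38400828055038402005284810000248284830013810100002503828480518484000055020481801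
theorem n6 : fullChk J.E [L0, L1, L2, L3] R [nat_lit 0, nat_lit 16, nat_lit 8] t6 (nat_lit 40) (nat_lit 1099511627775) = true := by decide +kernel
noncomputable def t5 : ℕ := nat_lit 0x2212210031112132000000
theorem n5 : redChk J.E [L0, L1, L2, L3] J.AV [nat_lit 0, nat_lit 16] [nat_lit 940574720, nat_lit 1343227904] t5 [nat_lit 8, nat_lit 56] = true := by decide +kernel
noncomputable def t4 : ℕ := nat_lit 0x18403800062810080006304008000428505000054820103006301048000638380800063810200806
theorem n4 : fullChk J.E [L0, L1, L2, L3] R [nat_lit 0, nat_lit 8, nat_lit 64] t4 (nat_lit 40) (nat_lit 1099511627775) = true := by decide +kernel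
noncomputable def t3 : ℕ := nat_lit 0x50500800061820081006502810100628402808062818080005183008000648201000063820081807
theorem n3 : fullChk J.E [L0, L1, L2, L3] R [nat_lit 0, nat_lit 8, nat_lit 16] t3 (nat_lit 40) (nat_lit 1099511627775) = true := by decide +kernel
noncomputable def t2 : ℕ := nat_lit 0x2111002132122231000000
theorem n2 : redChk J.E [L0, L1, L2, L3] J.AV [nat_lit 0, nat_lit 8] [nat_lit 940574720, nat_lit 1074792448] t2 [nat_lit 16, nat_lit 64] = true := by decide +kernel
noncomputable def t1 : ℕ := nat_lit 0x3242314161225211000000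
theorem n1 : redChk J.E [L0, L1, L2, L3] J.AV [nat_lit 0] [nat_lit 806881280, nat_lit 538445824] t1 [nat_lit 8, nat_lit 16] = true := by decide +kernel
noncomputable def t0 : ℕ := nat_lit 0x3111422122122132310000
theorem n0 : redChk J.E [L0, L1, L2, L3] J.AV [] [nat_lit 1078470656, nat_lit 673204224] t0 [nat_lit 0, nat_lit 8] = true := by decide +kernel
theorem sp : specChk J.E [L0, L1, L2, L3] R os [1, 2, 3, 4, 5, 6, 8, 11] = true := by decide +kernel

end Cfsg.Agent.Comp.M11x
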