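import Cfsg.Agent.Comp.Std

set_option autoImplicit false
set_option maxRecDepth 100000
set_option Elab.async false

namespace Cfsg.Agent.Comp.M11x

noncomputable def c0 : ℕ := nat_lit 0x50484038302820181008
noncomputable def c1 : ℕ := nat_lit 0x3820401050182848300800
noncomputable def c2 : ℕ := nat_lit 0x1808502830484020103800
noncomputable def c3 : ℕ := nat_lit 0x3020501810400848283800
noncomputable def c4 : ℕ := nat_lit 0x3840103028504818200800
noncomputable def c5 : ℕ := nat_lit 0x4828104050302038180800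
noncomputable def c6 : ℕ := nat_lit 0x2838301850404820100800
noncomputable def c7 : ℕ := nat_lit 0x1850483020382840100800
noncomputable def c8 : ℕ := nat_lit 0x1028403038481820500800
noncomputable def cs : List ℕ := [c0, c1, c2, c3, c4, c5, c6, c7, c8]
noncomputable def ws : List (List ℕ) := [[], [], [nat_lit 1, nat_lit 1, nat_lit 0, nat_lit 1, nat_lit 0, nat_lit 1, nat_lit 1, nat_lit 0], [nat_lit 1, nat_lit 0, nat_lit 1, nat_lit 0, nat_lit 1, nat_lit 1, nat_lit 0], [nat_lit 2, nat_lit 3, nat_lit 2, nat_lit 3], [nat_lit 3, nat_lit 3, nat_lit 3, nat_lit 2], [nat_lit 5, nat_lit 5, nat_lit 5, nat_lit 4], [nat_lit 5, nat_lit 4, nat_lit 5, nat_lit 5, nat_lit 4], [nat_lit 1, nat_lit 1]]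
noncomputable def E : Env := ⟨nat_lit 8, nat_lit 255, cs, nat_lit 8⟩
noncomputable def bl : List ℕ := [nat_lit 0, nat_lit 1, nat_lit 2, nat_lit 3, nat_lit 4, nat_lit 5, nat_lit 6, nat_lit 7, nat_lit 8, nat_lit 9, nat_lit 10]
noncomputable def J : Job := ⟨nat_lit 11, E, nat_lit 2, nat_lit 9, ws, bl⟩
noncomputable def orb0 : ℕ := nat_lit 0x838102018284030485000
noncomputable def idx0 : ℕ := nat_lit 0x102040903050706080a00
noncomputable def lab0 : ℕ := nat_lit 0x101030502050502020100
noncomputable def L0 : Lvl := ⟨nat_lit 0, nat_lit 11, orb0, idx0, lab0, nat_lit 4, nat_lit 0, nat_lit 2⟩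
noncomputable def orb1 : ℕ := nat_lit 0x38301040501828204808
noncomputable def idx1 : ℕ := nat_lit 0x501060908030204070000
noncomputable def lab1 : ℕ := nat_lit 0x401060106010202030000
noncomputable def L1 : Lvl := ⟨nat_lit 8, nat_lit 10, orb1, idx1, lab1, nat_lit 3, nat_lit 2, nat_lit 2⟩
noncomputable def orb2 : ℕ := nat_lit 0x305020182838484010
noncomputable def idx2 : ℕ := nat_lit 0x702010308040605000000
noncomputable def lab2 : ℕ := nat_lit 0x201010201030104000000
noncomputable def L2 : Lvl := ⟨nat_lit 16, nat_lit 9, orb2, idx2, lab2, nat_lit 3, nat_lit 4, nat_lit 2⟩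
noncomputable def orb3 : ℕ := nat_lit 0x4020302848503818
noncomputable def idx3 : ℕ := nat_lit 0x203070105040600000000
noncomputable def lab3 : ℕ := nat_lit 0x201020101020100000000
noncomputable def L3 : Lvl := ⟨nat_lit 24, nat_lit 8, orb3, idx3, lab3, nat_lit 3, nat_lit 6, nat_lit 2⟩
noncomputable def os : List ℕ := [nat_lit 8, nat_lit 8, nat_lit 5, nat_lit 3, nat_lit 2, nat_lit 4, nat_lit 1, nat_lit 6, nat_lit 11, nat_lit 11]
noncomputable def h3 : ℕ := nat_lit 0
noncomputable def h2 : ℕ := nat_lit 0x201818484018403038281828181820183018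
noncomputable def h1 : ℕ := nat_lit 0x30401810483818382840283840282048483840181810281020301810181028282818181028301810
noncomputable def h0 : ℕ := nat_lit 0x181038181008201008202018181008182850404810501048181008202838202828203840382808502010181008283840502830181008381008181008283808181848
noncomputable def xs : List (List ℕ) := [[nat_lit 0, nat_lit 5], [nat_lit 2, nat_lit 3], [nat_lit 3], [nat_lit 1, nat_lit 5], [nat_lit 8], [nat_lit 1], [], [nat_lit 0, nat_lit 2], [nat_lit 0], [nat_lit 0, nat_lit 0]]
noncomputable def R : Reps := ⟨nat_lit 9, nat_lit 10, xs⟩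

end Cfsg.Agent.Comp.M11x
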